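import Cfsg.Agent.H206.Hall.DecTwo

/-!
# Decomposition from the 2-core, symplectic case (helper206, S2223, task 4477)

* `FrSp.dec_core`.
-/

set_option autoImplicit false
set_option linter.unusedSectionVars false

namespace Cfsg.Agent.H206.Hall

open Subgroup Cfsg.Agent.Cit Cfsg.Agent.H125.Hall

variable {k : Type} [Field k] [IsAlgClosed k] {V : Type} [AddCommGroup V] [Module k V] [FiniteDimensional k V]
  {A : Type} [Group A] [Finite A] {ρ : A →* (V →ₗ[k] V)} {S : Sylow 2 A} {ι : Type} [Finite ι] {t : ι → A}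
  {Q : ι → Subgroup A}

/-- A normal 2-subgroup which contains the involutions of the frame. -/
theorem FrSp.dec_core' (h : FrSp ρ S t Q) (hι : 3 ≤ Nat.card ι) {P : Subgroup A}
    (hP : P.Normal) (hP2 : IsPGroup 2 P) (htP : ∀ i, t i ∈ P) : Dec ρ t := by
  classical
  have := Fintype.ofFinite ι
  obtain ⟨B, hnd, halt, hB⟩ := h.form
  obtain ⟨e, he, hpc⟩ := h.pieces
  have hfr : Fr ρ S t Q ⊥ := h.toFr
  -- `P ≤ S`
  have hPS : P ≤ (S : Subgroup A) := by
    obtain ⟨T, hT⟩ := hP2.exists_le_sylow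
    obtain ⟨g, hg⟩ := MulAction.exists_smul_eq A T S
    intro x hx
    rw [← hg, Sylow.coe_subgroup_smul]
    refine Subgroup.mem_map.2 ⟨g⁻¹ * x * g, hT ?_, ?_⟩
    · have := hP.conj_mem x hx g⁻¹
      rwa [inv_inv] at this
    · simp [MulAut.conj_apply, mul_assoc]
  refine dec_of_graph hfr hnd hB (ne_of_pieces hfr hnd halt hB hι e he ?_)
  rintro Y ⟨a, i, rfl⟩
  have hx : a * t i * a⁻¹ ∈ (S : Subgroup A) := hPS (hP.conj_mem _ (htP i) a)
  have ho : orderOf (a * t i * a⁻¹) = 2 := by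
    rw [← hfr.ord i]
    exact MulEquiv.orderOf_eq (MulAut.conj a) (t i)
  have hd : Module.finrank k (mv ρ (a * t i * a⁻¹)) = 2 := by
    rw [mv_conj, ← hfr.dim i]
    refine (Submodule.equivMapOfInjective (ρ a) (fun v w hvw => ?_) _).finrank_eq.symm
    rw [← rho_inv_apply ρ a v, hvw, rho_inv_apply]
  obtain ⟨i', hi'⟩ := hpc _ hx ho hd
  exact ⟨i', by rw [← mv_conj]; exact hi'⟩

set_option linter.unusedVariables false in
/-- **SPD** -/
theorem FrSp.dec_core (h : FrSp ρ S t Q) (hc : (Nat.card A : k) ≠ 0) (hι : 3 ≤ Nat.card ι)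
    (hι2 : ∀ e : ℕ, Nat.card ι ≠ 2 ^ e) {P : Subgroup A} (hP : P.Normal) (hP2 : IsPGroup 2 P)
    (ht : ∀ i, t i ∈ P) : Dec ρ t :=
  FrSp.dec_core' h hι hP hP2 ht

end Cfsg.Agent.H206.Hall

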