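import Cfsg.Agent.H206.Hall.Frame

/-!
# `F* = O_2`, symplectic case (helper206, S2223, task 4214)

* `FrSp.dec_two`.
-/

set_option autoImplicit false
set_option linter.unusedSectionVars false

namespace Cfsg.Agent.H206.Hall

open Subgroup Cfsg.Agent.Cit Cfsg.Agent.H125.Hall

section Dec

variable {k : Type*} [Field k] [IsAlgClosed k] {V : Type*} [AddCommGroup V] [Module k V] [FiniteDimensional k V]
  {A : Type*} [Group A] [Finite A] {ρ : A →* (V →ₗ[k] V)} {S : Sylow 2 A} {ι : Type*} [Fintype ι] {t : ι → A}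
  {Q : ι → Subgroup A} {B : LinearMap.BilinForm k V}

/-- the conjugates of the planes `U_i` -/
def IsX (ρ : A →* (V →ₗ[k] V)) (t : ι → A) (Y : Submodule k V) : Prop :=
  ∃ (a : A) (i : ι), Y = (mv ρ (t i)).map (ρ a)

/-- two conjugates of the planes which are not orthogonal -/
def RX (ρ : A →* (V →ₗ[k] V)) (t : ι → A) (B : LinearMap.BilinForm k V) (Y Y' : Submodule k V) : Prop :=
  IsX ρ t Y ∧ IsX ρ t Y' ∧ ∃ v ∈ Y, ∃ w ∈ Y', B v w ≠ 0

theorem isX_self (ρ : A →* (V →ₗ[k] V)) (t : ι → A) (i : ι) : IsX ρ t (mv ρ (t i)) := by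
  refine ⟨1, i, ?_⟩
  rw [map_one]
  exact (Submodule.map_id _).symm

theorem IsX.map {Y : Submodule k V} (h : IsX ρ t Y) (a : A) : IsX ρ t (Y.map (ρ a)) := by
  obtain ⟨b, i, rfl⟩ := h
  refine ⟨a * b, i, ?_⟩
  rw [← Submodule.map_comp, map_mul]
  rfl

theorem RX.map (hB : ∀ a v w, B (ρ a v) (ρ a w) = B v w) {Y Y' : Submodule k V} (h : RX ρ t B Y Y') (a : A) :
    RX ρ t B (Y.map (ρ a)) (Y'.map (ρ a)) := by
  obtain ⟨h1, h2, v, hv, w, hw, h3⟩ := h
  exact ⟨h1.map a, h2.map a, _, Submodule.mem_map_of_mem hv, _, Submodule.mem_map_of_mem hw, by rwa [hB]⟩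

theorem eqv_map (hB : ∀ a v w, B (ρ a v) (ρ a w) = B v w) {Y Y' : Submodule k V}
    (h : Relation.EqvGen (RX ρ t B) Y Y') (a : A) :
    Relation.EqvGen (RX ρ t B) (Y.map (ρ a)) (Y'.map (ρ a)) := by
  induction h with
  | rel x y h => exact .rel _ _ (h.map hB a)
  | refl x => exact .refl _
  | symm x y _ ih => exact .symm _ _ ih
  | trans x y z _ _ ih1 ih2 => exact .trans _ _ _ ih1 ih2

/-- the partition of the frame -/
def eX (ρ : A →* (V →ₗ[k] V)) (t : ι → A) (B : LinearMap.BilinForm k V) : Setoid ι where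
  r i j := Relation.EqvGen (RX ρ t B) (mv ρ (t i)) (mv ρ (t j))
  iseqv := ⟨fun _ => .refl _, fun h => .symm _ _ h, fun h h' => .trans _ _ _ h h'⟩

theorem eX_iff {i j : ι} : eX ρ t B i j ↔ Relation.EqvGen (RX ρ t B) (mv ρ (t i)) (mv ρ (t j)) := Iff.rfl

/-- a component of a vector of `Y` -/
theorem rx_of_pj (h : Fr ρ S t Q ⊥) (hnd : B.Nondegenerate) (hB : ∀ a v w, B (ρ a v) (ρ a w) = B v w)
    {Y : Submodule k V} (hY : IsX ρ t Y) {v : V} (hv : v ∈ Y) {l : ι} (hl : pj ρ (t l) v ≠ 0) :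
    RX ρ t B Y (mv ρ (t l)) := by
  classical
  refine ⟨hY, isX_self ρ t l, v, hv, ?_⟩
  obtain ⟨x, hx⟩ : ∃ x, B (pj ρ (t l) v) x ≠ 0 := by
    by_contra hcon
    push Not at hcon
    exact hl (hnd.1 _ hcon)
  have h1 : ∀ (u : V), B u (pj ρ (t l) x) = B (pj ρ (t l) u) (pj ρ (t l) x) := by
    intro u
    conv_lhs => rw [← sum_pj h u]
    rw [map_sum, LinearMap.sum_apply, Finset.sum_eq_single l]
    · intro i _ hi
      exact orth h hB hi (pj_mem ρ _ _) (pj_mem ρ _ _)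
    · intro h; exact absurd (Finset.mem_univ l) h
  have h2 : B (pj ρ (t l) v) x = B (pj ρ (t l) v) (pj ρ (t l) x) := by
    conv_lhs => rw [← sum_pj h x]
    rw [map_sum, Finset.sum_eq_single l]
    · intro i _ hi
      exact orth h hB hi.symm (pj_mem ρ _ _) (pj_mem ρ _ _)
    · intro h; exact absurd (Finset.mem_univ l) h
  exact ⟨pj ρ (t l) x, pj_mem ρ _ _, by rw [h1, ← h2]; exact hx⟩

/-- members of the component of `U_i` -/
theorem le_of_eqv (h : Fr ρ S t Q ⊥) (hnd : B.Nondegenerate) (hB : ∀ a v w, B (ρ a v) (ρ a w) = B v w)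
    {Y : Submodule k V} (hY : IsX ρ t Y) {i : ι} (hi : Relation.EqvGen (RX ρ t B) (mv ρ (t i)) Y) :
    Y ≤ ⨆ l, ⨆ _ : eX ρ t B i l, mv ρ (t l) := by
  intro v hv
  rw [← sum_pj h v]
  refine Submodule.sum_mem _ fun l _ => ?_
  by_cases hl : pj ρ (t l) v = 0
  · rw [hl]; exact Submodule.zero_mem _
  · have h1 : eX ρ t B i l := .trans _ _ _ hi (.rel _ _ (rx_of_pj h hnd hB hY hv hl))
    exact (le_iSup₂_of_le (f := fun l (_ : eX ρ t B i l) => mv ρ (t l)) l h1 le_rfl) (pj_mem ρ (t l) v)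

/-- every conjugate is in the component of some `U_j` -/
theorem exists_rx (h : Fr ρ S t Q ⊥) (hnd : B.Nondegenerate) (hB : ∀ a v w, B (ρ a v) (ρ a w) = B v w)
    {Y : Submodule k V} (hY : IsX ρ t Y) : ∃ j, RX ρ t B Y (mv ρ (t j)) := by
  have hne : Y ≠ ⊥ := by
    obtain ⟨a, i, rfl⟩ := hY
    intro h0
    apply fr_ne_bot h i
    rw [eq_bot_iff]
    intro v hv
    have h1 : ρ a v ∈ (mv ρ (t i)).map (ρ a) := Submodule.mem_map_of_mem hv
    rw [h0, Submodule.mem_bot] at h1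
    rw [Submodule.mem_bot, ← rho_inv_apply ρ a v, h1, map_zero]
  obtain ⟨v, hv, hv0⟩ := Submodule.exists_mem_ne_zero_of_ne_bot hne
  obtain ⟨l, hl⟩ : ∃ l, pj ρ (t l) v ≠ 0 := by
    by_contra hcon
    push Not at hcon
    apply hv0
    rw [← sum_pj h v]
    exact Finset.sum_eq_zero fun l _ => hcon l
  exact ⟨l, rx_of_pj h hnd hB hY hv hl⟩

/-- `A` permutes the spans of the components -/
theorem map_le (h : Fr ρ S t Q ⊥) (hnd : B.Nondegenerate) (hB : ∀ a v w, B (ρ a v) (ρ a w) = B v w) (a : A) {i j : ι}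
    (hij : Relation.EqvGen (RX ρ t B) ((mv ρ (t i)).map (ρ a)) (mv ρ (t j))) :
    (⨆ l, ⨆ _ : eX ρ t B i l, mv ρ (t l)).map (ρ a) ≤ ⨆ l, ⨆ _ : eX ρ t B j l, mv ρ (t l) := by
  rw [Submodule.map_le_iff_le_comap]
  refine iSup₂_le fun l hl => ?_
  rw [← Submodule.map_le_iff_le_comap]
  refine le_of_eqv h hnd hB ((isX_self ρ t l).map a) ?_
  exact .trans _ _ _ (.symm _ _ hij) (eqv_map hB hl a)

theorem dec_of_graph (h : Fr ρ S t Q ⊥) (hnd : B.Nondegenerate) (hB : ∀ a v w, B (ρ a v) (ρ a w) = B v w)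
    (hne : ∃ i j, ¬ eX ρ t B i j) : Dec ρ t := by
  refine ⟨eX ρ t B, hne, fun a i => ?_⟩
  obtain ⟨j, hj⟩ := exists_rx h hnd hB ((isX_self ρ t i).map a)
  refine ⟨j, le_antisymm (map_le h hnd hB a (.rel _ _ hj)) ?_⟩
  have h1 : Relation.EqvGen (RX ρ t B) ((mv ρ (t j)).map (ρ a⁻¹)) (mv ρ (t i)) := by
    have h2 := eqv_map hB (.symm _ _ (.rel _ _ hj) : Relation.EqvGen (RX ρ t B) (mv ρ (t j)) _) a⁻¹
    have h3 : ((mv ρ (t i)).map (ρ a)).map (ρ a⁻¹) = mv ρ (t i) := by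
      rw [← Submodule.map_comp]
      have : (ρ a⁻¹).comp (ρ a) = LinearMap.id := by
        ext v
        exact rho_inv_apply ρ a v
      rw [this, Submodule.map_id]
    rwa [h3] at h2
  have h2 := Submodule.map_mono (f := ρ a) (map_le h hnd hB a⁻¹ h1)
  rw [← Submodule.map_comp] at h2
  have h3 : (ρ a).comp (ρ a⁻¹) = LinearMap.id := by
    ext v
    exact rho_apply_inv ρ a v
  rw [h3, Submodule.map_id] at h2
  exact h2

/-- if all conjugates live on the parts of a partition with parts of length at most two, the graph is not connected -/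
theorem ne_of_pieces (h : Fr ρ S t Q ⊥) (hnd : B.Nondegenerate) (halt : B.IsAlt)
    (hB : ∀ a v w, B (ρ a v) (ρ a w) = B v w)
    (hι : 3 ≤ Nat.card ι) (e : Setoid ι) (he : ∀ i j l, e i j → e i l → i = j ∨ i = l ∨ j = l)
    (hp : ∀ Y, IsX ρ t Y → ∃ i, Y ≤ ⨆ j, ⨆ _ : e i j, mv ρ (t j)) : ∃ i j, ¬ eX ρ t B i j := by
  classical
  -- different parts are orthogonal
  have hsym : ∀ v w, B v w = 0 → B w v = 0 := by
    intro v w h1
    have h2 : B (v + w) (v + w) = 0 := halt (v + w)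
    have h3 : B v v = 0 := halt v
    have h4 : B w w = 0 := halt w
    simp only [map_add, LinearMap.add_apply, h1, h3, h4, zero_add, add_zero] at h2
    exact h2
  have horth : ∀ i i', ¬ e i i' → ∀ v ∈ ⨆ j, ⨆ _ : e i j, mv ρ (t j), ∀ w ∈ ⨆ j, ⨆ _ : e i' j, mv ρ (t j), B v w = 0 := by
    intro i i' hii v hv w hw
    have h1 : (⨆ j, ⨆ _ : e i j, mv ρ (t j)) ≤ LinearMap.ker (LinearMap.flip B w) := by
      refine iSup₂_le fun j hj x hx => ?_
      rw [LinearMap.mem_ker, LinearMap.flip_apply]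
      have h2 : (⨆ j, ⨆ _ : e i' j, mv ρ (t j)) ≤ LinearMap.ker (B x) := by
        refine iSup₂_le fun j' hj' y hy => ?_
        rw [LinearMap.mem_ker]
        refine orth h hB (fun hjj => hii ?_) hx hy
        subst hjj
        exact e.trans' hj (e.symm' hj')
      exact h2 hw
    exact h1 hv
  have hstep : ∀ Y Y', RX ρ t B Y Y' → ∀ i, Y ≤ (⨆ j, ⨆ _ : e i j, mv ρ (t j)) → Y' ≤ ⨆ j, ⨆ _ : e i j, mv ρ (t j) := by
    rintro Y Y' ⟨hY, hY', v, hv, w, hw, hvw⟩ i hi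
    obtain ⟨i', hi'⟩ := hp Y' hY'
    have hii : e i i' := by
      by_contra hcon
      exact hvw (horth i i' hcon v (hi hv) w (hi' hw))
    refine hi'.trans (iSup₂_le fun j hj => ?_)
    exact le_iSup₂_of_le (f := fun j (_ : e i j) => mv ρ (t j)) j (e.trans' hii hj) le_rfl
  have hrsym : ∀ Y Y', RX ρ t B Y Y' → RX ρ t B Y' Y := by
    rintro Y Y' ⟨hY, hY', v, hv, w, hw, hvw⟩
    exact ⟨hY', hY, w, hw, v, hv, fun h1 => hvw (hsym _ _ h1)⟩
  have hiff : ∀ Y Y', Relation.EqvGen (RX ρ t B) Y Y' → ∀ i, Y ≤ (⨆ j, ⨆ _ : e i j, mv ρ (t j)) ↔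
      Y' ≤ ⨆ j, ⨆ _ : e i j, mv ρ (t j) := by
    intro Y Y' hYY
    induction hYY with
    | rel x y h => exact fun i => ⟨hstep x y h i, hstep y x (hrsym x y h) i⟩
    | refl x => exact fun i => Iff.rfl
    | symm x y _ ih => exact fun i => (ih i).symm
    | trans x y z _ _ ih1 ih2 => exact fun i => (ih1 i).trans (ih2 i)
  have hle : ∀ i j, eX ρ t B i j → e i j := by
    intro i j hij
    by_contra hcon
    have h1 : mv ρ (t j) ≤ ⨆ l, ⨆ _ : e i l, mv ρ (t l) :=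
      (hiff _ _ hij i).1 (le_iSup₂_of_le (f := fun l (_ : e i l) => mv ρ (t l)) i (e.refl' i) le_rfl)
    apply fr_ne_bot h j
    rw [eq_bot_iff]
    intro v hv
    rw [Submodule.mem_bot]
    apply hnd.1
    intro x
    rw [← sum_pj h x, map_sum]
    refine Finset.sum_eq_zero fun l _ => ?_
    by_cases hlj : l = j
    · subst hlj
      exact horth i l hcon v (h1 hv) _ ((le_iSup₂_of_le (f := fun m (_ : e l m) => mv ρ (t m)) l (e.refl' l) le_rfl)
        (pj_mem ρ (t l) x))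
    · exact orth h hB (fun h2 => hlj h2.symm) hv (pj_mem ρ (t l) x)
  by_contra hcon
  push Not at hcon
  have hall : ∀ i j, e i j := fun i j => hle i j (hcon i j)
  rw [Nat.card_eq_fintype_card] at hι
  obtain ⟨i, j, l, hij, hil, hjl⟩ := Fintype.two_lt_card_iff.1 (by omega : 2 < Fintype.card ι)
  rcases he i j l (hall i j) (hall i l) with h1 | h1 | h1
  · exact hij h1
  · exact hil h1
  · exact hjl h1

end Dec

section main

variable {k : Type} [Field k] [IsAlgClosed k] {V : Type} [AddCommGroup V] [Module k V] [FiniteDimensional k V]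
  {A : Type} [Group A] [Finite A] {ρ : A →* (V →ₗ[k] V)} {S : Sylow 2 A} {ι : Type} [Finite ι] {t : ι → A}
  {Q : ι → Subgroup A}

set_option linter.unusedVariables false in
/-- **S3** -/
theorem FrSp.dec_two (h : FrSp ρ S t Q) (hc : (Nat.card A : k) ≠ 0) (hι : 3 ≤ Nat.card ι) {P : Subgroup A}
    (hP : P.Normal) (hP2 : IsPGroup 2 P) (hCP : ∀ x : A, (∀ y ∈ P, x * y = y * x) → x ∈ P) : Dec ρ t := by
  classical
  have := Fintype.ofFinite ι
  obtain ⟨B, hnd, halt, hB⟩ := h.form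
  obtain ⟨e, he, hpc⟩ := h.pieces
  have hfr : Fr ρ S t Q ⊥ := h.toFr
  have htP : ∀ i, t i ∈ P := fun i => TQ.mem_of_normal (fr_tq hfr i) hP hP2 hCP
  -- `P ≤ S`
  have hPS : P ≤ (S : Subgroup A) := by
    obtain ⟨T, hT⟩ := hP2.exists_le_sylow
    obtain ⟨g, hg⟩ := MulAction.exists_smul_eq A T S
    intro x hx
    rw [← hg, Sylow.coe_subgroup_smul]
    refine Subgroup.mem_map.2 ⟨g⁻¹ * x * g, hT ?_, ?_⟩
    · have := hP.conj_mem x hx g⁻¹
      rwa [inv_inv] at this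
    · simp [MulAut.conj_apply, mul_assoc]
  refine dec_of_graph hfr hnd hB (ne_of_pieces hfr hnd halt hB hι e he ?_)
  rintro Y ⟨a, i, rfl⟩
  have hx : a * t i * a⁻¹ ∈ (S : Subgroup A) := hPS (hP.conj_mem _ (htP i) a)
  have ho : orderOf (a * t i * a⁻¹) = 2 := by
    rw [← hfr.ord i]
    exact MulEquiv.orderOf_eq (MulAut.conj a) (t i)
  have hd : Module.finrank k (mv ρ (a * t i * a⁻¹)) = 2 := by
    rw [mv_conj, ← hfr.dim i]
    refine (Submodule.equivMapOfInjective (ρ a) (fun v w hvw => ?_) _).finrank_eq.symm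
    rw [← rho_inv_apply ρ a v, hvw, rho_inv_apply]
  obtain ⟨i', hi'⟩ := hpc _ hx ho hd
  exact ⟨i', by rw [← mv_conj]; exact hi'⟩

end main

end Cfsg.Agent.H206.Hall
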