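import Cfsg.Agent.H206.Hall.Tight

/-!
# Basic facts on frames (helper206, S2223)

* `mem_mv`, `mv_conj`, `det_involution`;
* `fr_tq` : `TQ (t i) (Q i) (Kt ρ (t i))`;
* `scalar_of_comm`, `fr_scalar` : what commutes with `Q i` is scalar on `U_i`;
* `fr_triv` : `t i` is trivial on `U_j`, `i ≠ j`.
-/

set_option autoImplicit false
set_option linter.unusedSectionVars false

namespace Cfsg.Agent.H206.Hall

open Subgroup Cfsg.Agent.Cit Cfsg.Agent.H125.Hall

variable {k : Type*} [Field k] {V : Type*} [AddCommGroup V] [Module k V] {A : Type*} [Group A]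
  {ρ : A →* (V →ₗ[k] V)}

theorem rho_mul (ρ : A →* (V →ₗ[k] V)) (a b : A) (v : V) : ρ (a * b) v = ρ a (ρ b v) := by
  rw [map_mul, Module.End.mul_apply]

theorem rho_one (ρ : A →* (V →ₗ[k] V)) (v : V) : ρ 1 v = v := by rw [map_one, Module.End.one_apply]

theorem rho_inv_apply (ρ : A →* (V →ₗ[k] V)) (a : A) (v : V) : ρ a⁻¹ (ρ a v) = v := by
  rw [← rho_mul, inv_mul_cancel, rho_one]

theorem rho_apply_inv (ρ : A →* (V →ₗ[k] V)) (a : A) (v : V) : ρ a (ρ a⁻¹ v) = v := by
  rw [← rho_mul, mul_inv_cancel, rho_one]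

/-- the fixed points and `[V, t]` for an involution -/
theorem mem_mv (h2 : (2 : k) ≠ 0) {t : A} (ht : t * t = 1) {v : V} : v ∈ mv ρ t ↔ ρ t v = -v := by
  constructor
  · rintro ⟨w, rfl⟩
    rw [LinearMap.sub_apply, Module.End.one_apply, map_sub, ← rho_mul, ht, rho_one]
    abel
  · intro h
    refine ⟨-((2 : k)⁻¹ • v), ?_⟩
    rw [LinearMap.sub_apply, Module.End.one_apply, map_neg, map_smul, h]
    have : (2 : k)⁻¹ • v + (2 : k)⁻¹ • v = v := by
      rw [← add_smul, ← two_mul, mul_inv_cancel₀ h2, one_smul]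
    rw [smul_neg, neg_neg, sub_neg_eq_add, this]

theorem sub_mem_mv (ρ : A →* (V →ₗ[k] V)) (t : A) (v : V) : ρ t v - v ∈ mv ρ t :=
  ⟨v, by rw [LinearMap.sub_apply, Module.End.one_apply]⟩

theorem mv_conj (ρ : A →* (V →ₗ[k] V)) (a t : A) : mv ρ (a * t * a⁻¹) = (mv ρ t).map (ρ a) := by
  ext v
  rw [Submodule.mem_map]
  constructor
  · rintro ⟨w, rfl⟩
    refine ⟨ρ t (ρ a⁻¹ w) - ρ a⁻¹ w, sub_mem_mv ρ t _, ?_⟩
    rw [map_sub, rho_apply_inv, LinearMap.sub_apply, Module.End.one_apply, rho_mul, rho_mul]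
  · rintro ⟨_, ⟨w, rfl⟩, rfl⟩
    refine ⟨ρ a w, ?_⟩
    rw [LinearMap.sub_apply, Module.End.one_apply, LinearMap.sub_apply, Module.End.one_apply, map_sub, rho_mul,
      rho_mul, rho_inv_apply]

/-- what commutes with `t` preserves `[V, t]` -/
theorem mv_inv {t x : A} (h : x * t = t * x) {v : V} (hv : v ∈ mv ρ t) : ρ x v ∈ mv ρ t := by
  obtain ⟨w, rfl⟩ := hv
  refine ⟨ρ x w, ?_⟩
  rw [LinearMap.sub_apply, Module.End.one_apply, LinearMap.sub_apply, Module.End.one_apply, map_sub, ← rho_mul,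
    ← rho_mul, h]

/-- the determinant of an involution -/
theorem det_involution [FiniteDimensional k V] (h2 : (2 : k) ≠ 0) {t : A} (ht : t * t = 1) :
    LinearMap.det (ρ t) = (-1) ^ Module.finrank k (mv ρ t) := by
  have he : ∀ v ∈ mv ρ t, ρ t v ∈ mv ρ t := fun v hv => mv_inv rfl hv
  rw [LinearMap.det_eq_det_mul_det (mv ρ t) (ρ t) he]
  have h1 : (ρ t).restrict he = (-1 : k) • LinearMap.id := by
    ext ⟨v, hv⟩
    rw [LinearMap.coe_restrict_apply, LinearMap.smul_apply, LinearMap.id_apply, Submodule.coe_smul, neg_one_smul]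
    exact (mem_mv h2 ht).1 hv
  have h3 : (mv ρ t).mapQ (mv ρ t) (ρ t) he = LinearMap.id := by
    apply LinearMap.ext
    intro x
    obtain ⟨v, rfl⟩ := Submodule.mkQ_surjective _ x
    rw [Submodule.mkQ_apply, Submodule.mapQ_apply, LinearMap.id_apply, Submodule.Quotient.eq]
    exact sub_mem_mv ρ t v
  rw [h1, h3, LinearMap.det_id, mul_one, LinearMap.det_smul, LinearMap.det_id, mul_one]

/-- an element of order two of `Kt ρ t` is `t`, if `dim [V,t] = 2` and the determinants are `1` -/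
theorem kt_uniq [FiniteDimensional k V] (hinj : Function.Injective ρ) (h2 : (2 : k) ≠ 0) {t : A} (ht : t * t = 1)
    (hd : Module.finrank k (mv ρ t) = 2) {x : A} (hx : x ∈ Kt ρ t) (hdet : LinearMap.det (ρ x) = 1)
    (hxo : orderOf x = 2) : x = t := by
  obtain ⟨hxt, hxf⟩ := hx
  have hxx : x * x = 1 := by
    have := pow_orderOf_eq_one x
    rwa [hxo, sq] at this
  -- `v + t v` is fixed by `t`
  have hfix : ∀ v : V, ρ t (v + ρ t v) = v + ρ t v := by
    intro v
    rw [map_add, ← rho_mul, ht, rho_one, add_comm]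
  have hhalf : ∀ v : V, (2 : k) • v = (v + ρ t v) - (ρ t v - v) := by
    intro v
    rw [two_smul]; abel
  have hle : mv ρ x ≤ mv ρ t := by
    rintro _ ⟨v, rfl⟩
    rw [LinearMap.sub_apply, Module.End.one_apply]
    have h3 : (2 : k) • (ρ x v - v) = (ρ t v - v) - ρ x (ρ t v - v) := by
      rw [smul_sub, ← map_smul, hhalf v, map_sub, hxf _ (hfix v)]
      abel
    have h4 : (2 : k) • (ρ x v - v) ∈ mv ρ t := by
      rw [h3]
      exact (mv ρ t).sub_mem (sub_mem_mv ρ t v) (mv_inv hxt (sub_mem_mv ρ t v))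
    have h5 := (mv ρ t).smul_mem (2 : k)⁻¹ h4
    rwa [smul_smul, inv_mul_cancel₀ h2, one_smul] at h5
  have hd1 := Submodule.finrank_mono hle
  rw [hd] at hd1
  have hdx := det_involution (ρ := ρ) h2 hxx
  rw [hdet] at hdx
  have hne1 : (1 : k) ≠ (-1) ^ 1 := by
    rw [pow_one]
    intro h
    apply h2
    calc (2 : k) = 1 + 1 := by norm_num
      _ = 1 + -1 := by rw [← h]
      _ = 0 := by ring
  have hd0 : Module.finrank k (mv ρ x) ≠ 0 := by
    intro h0
    have hbot : mv ρ x = ⊥ := Submodule.finrank_eq_zero.1 h0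
    have : x = 1 := by
      apply hinj
      ext v
      have h3 : ρ x v - v ∈ mv ρ x := sub_mem_mv ρ x v
      rw [hbot, Submodule.mem_bot, sub_eq_zero] at h3
      rw [h3, map_one, Module.End.one_apply]
    rw [this, orderOf_one] at hxo
    norm_num at hxo
  have hd2 : Module.finrank k (mv ρ x) = 2 := by
    interval_cases h : Module.finrank k (mv ρ x)
    · exact absurd rfl hd0
    · exact absurd hdx hne1
    · rfl
  have heq : mv ρ x = mv ρ t := Submodule.eq_of_le_of_finrank_eq hle (by rw [hd2, hd])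
  apply hinj
  ext v
  have h3 : ρ x (ρ t v - v) = -(ρ t v - v) := by
    have : ρ t v - v ∈ mv ρ x := by rw [heq]; exact sub_mem_mv ρ t v
    exact (mem_mv h2 hxx).1 this
  have h4 := hxf _ (hfix v)
  have h5 : (2 : k) • ρ x v = (2 : k) • ρ t v := by
    rw [← map_smul, hhalf v, map_sub, h3, h4, two_smul]
    abel
  have h6 := congrArg (fun w => (2 : k)⁻¹ • w) h5
  simpa [smul_smul, inv_mul_cancel₀ h2] using h6

/-- `C(t)` normalises `Kt ρ t` -/
theorem kt_norm {t x : A} (hx : x * t = t * x) : ∀ y ∈ Kt ρ t, x * y * x⁻¹ ∈ Kt ρ t := by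
  rintro y ⟨hy, hy'⟩
  have hx' : x⁻¹ * t = t * x⁻¹ := by
    rw [inv_mul_eq_iff_eq_mul, ← mul_assoc, hx, mul_inv_cancel_right]
  refine ⟨?_, fun v hv => ?_⟩
  · calc x * y * x⁻¹ * t = x * y * (x⁻¹ * t) := by group
      _ = x * (y * t) * x⁻¹ := by rw [hx']; group
      _ = (x * t) * y * x⁻¹ := by rw [hy]; group
      _ = t * (x * y * x⁻¹) := by rw [hx]; group
  · rw [rho_mul, rho_mul]
    have h1 : ρ t (ρ x⁻¹ v) = ρ x⁻¹ v := by rw [← rho_mul, ← hx', rho_mul, hv]
    rw [hy' _ h1, rho_apply_inv]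

/-- **Schur's lemma for a plane**: what commutes with `a` and `b` is scalar on a plane on which `b² = -1` and `a`
inverts `b`. -/
theorem scalar_of_comm [IsAlgClosed k] [FiniteDimensional k V] (h2 : (2 : k) ≠ 0) {U : Submodule k V}
    (hU : Module.finrank k U = 2) {a b : A} (hab : a * b * a⁻¹ = b⁻¹) (hb : ∀ v ∈ U, ρ b (ρ b v) = -v)
    (hbU : ∀ v ∈ U, ρ b v ∈ U) (haU : ∀ v ∈ U, ρ a v ∈ U) {c : A} (hca : c * a = a * c) (hcb : c * b = b * c)
    (hcU : ∀ v ∈ U, ρ c v ∈ U) : ∃ μ : k, ∀ v ∈ U, ρ c v = μ • v := by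
  obtain ⟨s, hs⟩ := IsAlgClosed.exists_pow_nat_eq (-1 : k) (n := 2) two_pos
  -- an eigenvector of `b`
  obtain ⟨l, v, hl, hv, hv0, hbv⟩ : ∃ (l : k) (v : V), l ^ 2 = -1 ∧ v ∈ U ∧ v ≠ 0 ∧ ρ b v = l • v := by
    have hne : U ≠ ⊥ := by
      rintro rfl
      rw [finrank_bot] at hU
      exact absurd hU (by norm_num)
    obtain ⟨w, hw, hw0⟩ := Submodule.exists_mem_ne_zero_of_ne_bot hne
    by_cases h0 : ρ b w + s • w = 0
    · refine ⟨-s, w, by rw [neg_sq, hs], hw, hw0, ?_⟩
      rw [neg_smul]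
      exact eq_neg_of_add_eq_zero_left h0
    · refine ⟨s, ρ b w + s • w, hs, U.add_mem (hbU w hw) (U.smul_mem s hw), h0, ?_⟩
      rw [map_add, map_smul, hb w hw, smul_add, smul_smul, ← sq, hs, neg_one_smul, add_comm]
  have hl0 : l ≠ 0 := by
    rintro rfl
    rw [zero_pow two_ne_zero] at hl
    have : (1 : k) = 0 := by
      have := congrArg (fun x => -x) hl
      simpa using this.symm
    exact one_ne_zero this
  have hinv : ρ b⁻¹ v = -(l • v) := by
    have h3 : ρ b (-(l • v)) = v := by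
      rw [map_neg, map_smul, hbv, smul_smul, ← sq, hl, neg_one_smul, neg_neg]
    rw [← h3, rho_inv_apply, h3]
  have hba : b * a = a * b⁻¹ := by
    have h3 : b * (a * b * a⁻¹) = 1 := by rw [hab, mul_inv_cancel]
    calc b * a = b * (a * b * a⁻¹) * (a * b⁻¹) := by group
      _ = a * b⁻¹ := by rw [h3, one_mul]
  have hbu : ρ b (ρ a v) = -(l • ρ a v) := by
    rw [← rho_mul, hba, rho_mul, hinv, map_neg, map_smul]
  have hu0 : ρ a v ≠ 0 := by
    intro h
    apply hv0
    rw [← rho_inv_apply ρ a v, h, map_zero]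
  have hli : LinearIndependent k ![v, ρ a v] := by
    rw [LinearIndependent.pair_iff]
    intro x y hxy
    have h3 : x • v = y • ρ a v := by
      have h4 := congrArg (ρ b) hxy
      rw [map_add, map_smul, map_smul, hbv, hbu, map_zero, smul_neg, smul_comm x, smul_comm y, ← sub_eq_add_neg,
        ← smul_sub] at h4
      rcases smul_eq_zero.1 h4 with h5 | h5
      · exact absurd h5 hl0
      · exact sub_eq_zero.1 h5
    have h4 : (2 : k) • (x • v) = 0 := by
      rw [two_smul]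
      nth_rw 2 [h3]
      exact hxy
    have h5 : x • v = 0 := (smul_eq_zero.1 h4).resolve_left h2
    have h6 : y • ρ a v = 0 := by rw [← h3, h5]
    exact ⟨(smul_eq_zero.1 h5).resolve_right hv0, (smul_eq_zero.1 h6).resolve_right hu0⟩
  have hspan : Submodule.span k {v, ρ a v} = U := by
    apply Submodule.eq_of_le_of_finrank_eq
    · rw [Submodule.span_le]
      rintro x (rfl | hx)
      · exact hv
      · rw [Set.mem_singleton_iff] at hx
        rw [hx]
        exact haU v hv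
    · have h3 := finrank_span_eq_card hli
      have h4 : Set.range ![v, ρ a v] = {v, ρ a v} := by
        simp [Matrix.range_cons, Matrix.range_empty, Set.pair_comm]
      rw [h4, Fintype.card_fin] at h3
      rw [h3, hU]
  have hpair : ∀ w ∈ U, ∃ x y : k, x • v + y • ρ a v = w := by
    intro w hw
    rw [← hspan] at hw
    exact Submodule.mem_span_pair.1 hw
  obtain ⟨x, y, hxy⟩ := hpair _ (hcU v hv)
  have hy : y = 0 := by
    have h3 : ρ b (ρ c v) = l • ρ c v := by rw [← rho_mul, ← hcb, rho_mul, hbv, map_smul]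
    rw [← hxy, map_add, map_smul, map_smul, hbv, hbu, smul_add, smul_neg, smul_comm x, smul_comm y] at h3
    have h4 : (2 : k) • (l • (y • ρ a v)) = 0 := by
      have h5 : -(l • y • ρ a v) = l • y • ρ a v := by
        have := add_left_cancel h3
        exact this
      rw [two_smul]
      nth_rw 1 [← h5]
      exact neg_add_cancel _
    have h5 := (smul_eq_zero.1 h4).resolve_left h2
    have h6 := (smul_eq_zero.1 h5).resolve_left hl0
    exact (smul_eq_zero.1 h6).resolve_right hu0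
  rw [hy, zero_smul, add_zero] at hxy
  refine ⟨x, fun w hw => ?_⟩
  obtain ⟨α, β, rfl⟩ := hpair w hw
  have hcu : ρ c (ρ a v) = x • ρ a v := by rw [← rho_mul, hca, rho_mul, ← hxy, map_smul]
  rw [map_add, map_smul, map_smul, ← hxy, hcu, smul_add, smul_comm α, smul_comm β]

section frame

variable [FiniteDimensional k V] [Finite A] {S : Sylow 2 A} {ι : Type*} {t : ι → A} {Q : ι → Subgroup A}
  {V0 : Submodule k V}

theorem fr_sq (h : Fr ρ S t Q V0) (i : ι) : t i * t i = 1 := by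
  have := pow_orderOf_eq_one (t i)
  rwa [h.ord i, sq] at this

theorem fr_tq (h : Fr ρ S t Q V0) (i : ι) : TQ (t i) (Q i) (Kt ρ (t i)) where
  isQ := h.isQ i
  le := h.QK i
  mem := h.mem i
  ord := h.ord i
  uniq := fun _ hx ho => kt_uniq h.inj h.two (fr_sq h i) (h.dim i) hx (h.det _) ho
  norm := fun _ hx => kt_norm hx

/-- two elements `b` of order `4` and `a` inverting `b` -/
theorem exists_ab {A : Type*} [Group A] {t : A} {Q K : Subgroup A} (h : TQ t Q K) :
    ∃ a ∈ Q, ∃ b ∈ Q, b * b = t ∧ a * b * a⁻¹ = b⁻¹ := by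
  obtain ⟨b, hb, hb4⟩ := h.isQ.exists_four
  obtain ⟨a, ha, hab⟩ := h.isQ.exists_inverts b hb
  have hbt : b ^ 2 = t := AutQuat.IsQ.sq_eq (fun s hs ho => h.uniq s (h.le hs) ho) hb hb4
  exact ⟨a, ha, b, hb, by rw [← sq]; exact hbt, hab⟩

/-- what commutes with `Q i` is scalar on `U_i` -/
theorem fr_scalar [IsAlgClosed k] (h : Fr ρ S t Q V0) (i : ι) {c : A} (hc : ∀ x ∈ Q i, c * x = x * c) :
    ∃ μ : k, ∀ v ∈ mv ρ (t i), ρ c v = μ • v := by
  obtain ⟨a, ha, b, hb, hbb, hab⟩ := exists_ab (fr_tq h i)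
  have hat : a * t i = t i * a := (h.QK i ha).1
  have hbt : b * t i = t i * b := (h.QK i hb).1
  refine scalar_of_comm h.two (h.dim i) hab (fun v hv => ?_) (fun v hv => mv_inv hbt hv)
    (fun v hv => mv_inv hat hv) (hc a ha) (hc b hb) (fun v hv => mv_inv (hc _ (h.mem i)) hv)
  rw [← rho_mul, hbb]
  exact (mem_mv h.two (fr_sq h i)).1 hv

theorem fr_ne_bot (h : Fr ρ S t Q V0) (i : ι) : mv ρ (t i) ≠ ⊥ := by
  intro h0
  have := h.dim i
  rw [h0, finrank_bot] at this
  exact absurd this (by norm_num)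

/-- `t i` is trivial on `U_j`, `i ≠ j`. -/
theorem fr_triv [IsAlgClosed k] (h : Fr ρ S t Q V0) {i j : ι} (hij : i ≠ j) {w : V} (hw : w ∈ mv ρ (t j)) :
    ρ (t i) w = w := by
  obtain ⟨μ, hμ⟩ := fr_scalar h j (c := t i) fun x hx => h.comm i j hij _ (h.mem i) x hx
  obtain ⟨v, hv, hv0⟩ := Submodule.exists_mem_ne_zero_of_ne_bot (fr_ne_bot h j)
  have hμ2 : μ * μ = 1 := by
    have h1 : ρ (t i) (ρ (t i) v) = v := by rw [← rho_mul, fr_sq h i, rho_one]
    rw [hμ v hv, map_smul, hμ v hv, smul_smul] at h1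
    have h2 : (μ * μ - 1) • v = 0 := by rw [sub_smul, one_smul, h1, sub_self]
    exact sub_eq_zero.1 ((smul_eq_zero.1 h2).resolve_right hv0)
  rcases mul_self_eq_one_iff.1 hμ2 with h1 | h1
  · rw [hμ w hw, h1, one_smul]
  · exfalso
    have hle : mv ρ (t j) ≤ mv ρ (t i) := by
      intro x hx
      rw [mem_mv h.two (fr_sq h i), hμ x hx, h1, neg_one_smul]
    have heq : mv ρ (t j) = mv ρ (t i) := Submodule.eq_of_le_of_finrank_eq hle (by rw [h.dim, h.dim])
    obtain ⟨a, ha, b, hb, hbb, hab⟩ := exists_ab (fr_tq h i)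
    obtain ⟨α, hα⟩ := fr_scalar h j (c := a) fun x hx => h.comm i j hij _ ha x hx
    obtain ⟨β, hβ⟩ := fr_scalar h j (c := b) fun x hx => h.comm i j hij _ hb x hx
    have hab' : a * b = b⁻¹ * a := by rw [← hab]; group
    have hα0 : α ≠ 0 := by
      rintro rfl
      apply hv0
      rw [← rho_inv_apply ρ a v, hα v hv, zero_smul, map_zero]
    have h2 : α • (β • v) = α • ρ b⁻¹ v := by
      have h3 : ρ (a * b) v = ρ (b⁻¹ * a) v := by rw [hab']
      rw [rho_mul, rho_mul, hβ v hv, map_smul, hα v hv, map_smul, smul_comm β] at h3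
      exact h3
    have h3 : β • v = ρ b⁻¹ v := by
      have h4 : α • (β • v - ρ b⁻¹ v) = 0 := by rw [smul_sub, h2, sub_self]
      exact sub_eq_zero.1 ((smul_eq_zero.1 h4).resolve_left hα0)
    have h4 : ρ (t i) v = v := by
      rw [← hbb, rho_mul, hβ v hv, h3, rho_apply_inv]
    have h5 : ρ (t i) v = -v := by rw [hμ v hv, h1, neg_one_smul]
    rw [h4] at h5
    have h6 : (2 : k) • v = 0 := by
      rw [two_smul]
      nth_rw 1 [h5]
      exact neg_add_cancel v
    exact hv0 ((smul_eq_zero.1 h6).resolve_left h.two)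

end frame

section sp

variable [IsAlgClosed k] [FiniteDimensional k V] [Finite A] {S : Sylow 2 A} {ι : Type*} [Fintype ι] {t : ι → A}
  {Q : ι → Subgroup A}

/-- the projection onto `U_i` -/
noncomputable def pj (ρ : A →* (V →ₗ[k] V)) (t : A) (v : V) : V := -((2 : k)⁻¹ • (ρ t v - v))

theorem pj_mem (ρ : A →* (V →ₗ[k] V)) (t : A) (v : V) : pj ρ t v ∈ mv ρ t :=
  (mv ρ t).neg_mem ((mv ρ t).smul_mem _ (sub_mem_mv ρ t v))

theorem sum_pj (h : Fr ρ S t Q ⊥) (v : V) : ∑ i, pj ρ (t i) v = v := by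
  classical
  have h2 : ∀ j, ρ (t j) (v - ∑ i, pj ρ (t i) v) = v - ∑ i, pj ρ (t i) v := by
    intro j
    rw [map_sub, map_sum]
    have h3 : ∀ i, ρ (t j) (pj ρ (t i) v) = pj ρ (t i) v - if i = j then (2 : k) • pj ρ (t i) v else 0 := by
      intro i
      by_cases hij : i = j
      · subst hij
        rw [if_pos rfl, (mem_mv h.two (fr_sq h i)).1 (pj_mem ρ (t i) v), two_smul]
        abel
      · rw [if_neg hij, sub_zero, fr_triv h (Ne.symm hij) (pj_mem ρ (t i) v)]
    rw [Finset.sum_congr rfl fun i _ => h3 i, Finset.sum_sub_distrib, Finset.sum_ite_eq' Finset.univ j]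
    rw [if_pos (Finset.mem_univ j)]
    have h4 : (2 : k) • pj ρ (t j) v = v - ρ (t j) v := by
      unfold pj
      rw [smul_neg, smul_smul, mul_inv_cancel₀ h.two, one_smul]
      abel
    rw [h4]
    abel
  have h3 : v - ∑ i, pj ρ (t i) v ∈ (⊥ : Submodule k V) := (h.V0_eq _).2 h2
  rw [Submodule.mem_bot, sub_eq_zero] at h3
  exact h3.symm

/-- the planes `U_i` are orthogonal -/
theorem orth {V0 : Submodule k V} {ι : Type*} {t : ι → A} {Q : ι → Subgroup A} (h : Fr ρ S t Q V0) {B : LinearMap.BilinForm k V}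
    (hB : ∀ a v w, B (ρ a v) (ρ a w) = B v w) {i j : ι} (hij : i ≠ j) {v w : V}
    (hv : v ∈ mv ρ (t i)) (hw : w ∈ mv ρ (t j)) : B v w = 0 := by
  have h1 := hB (t i) v w
  rw [(mem_mv h.two (fr_sq h i)).1 hv, fr_triv h hij hw, map_neg, LinearMap.neg_apply] at h1
  have h2 : (2 : k) * B v w = 0 := by
    rw [two_mul]
    nth_rw 1 [← h1]
    exact neg_add_cancel _
  exact (mul_eq_zero.1 h2).resolve_left h.two

end sp

end Cfsg.Agent.H206.Hall
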