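import Cfsg.Agent.H125.Hall.Defs

/-!
# The involution `t` of a tightly embedded quaternion group lies in `O_2` (helper206, S2223)

* `TQ.mem_of_normal` : `TQ t Q K`, `P` a normal 2-subgroup with `C(P) ≤ P`: then `t ∈ P`.
-/

set_option autoImplicit false

namespace Cfsg.Agent.H206.Hall

open Subgroup Cfsg.Agent.Cit Cfsg.Agent.H125.Hall

variable {A : Type*} [Group A] [Finite A]

/-- normalisers grow in a `p`-subgroup -/
theorem exists_normalizes {p : ℕ} [Fact p.Prime] {T H : Subgroup A} (hT : IsPGroup p T) (hH : H ≤ T) (hne : H ≠ T) :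
    ∃ y ∈ T, y ∉ H ∧ ∀ h ∈ H, y * h * y⁻¹ ∈ H := by
  have hnil : Group.IsNilpotent T := hT.isNilpotent
  have hlt : H.subgroupOf T < ⊤ := by
    rw [lt_top_iff_ne_top]
    intro h
    exact hne (le_antisymm hH (Subgroup.subgroupOf_eq_top.1 h))
  have h1 := Group.normalizerCondition_of_isNilpotent (G := T) _ hlt
  obtain ⟨⟨y, hyT⟩, hy, hy'⟩ := SetLike.exists_of_lt h1
  refine ⟨y, hyT, fun h => hy' (Subgroup.mem_subgroupOf.2 h), fun h hh => ?_⟩
  have := (Subgroup.mem_normalizer_iff.1 hy ⟨h, hH hh⟩).1 (Subgroup.mem_subgroupOf.2 hh)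
  exact Subgroup.mem_subgroupOf.1 this

theorem TQ.mem_of_normal {t : A} {Q K : Subgroup A} (h : TQ t Q K) {P : Subgroup A} (hP : P.Normal)
    (hP2 : IsPGroup 2 P) (hCP : ∀ x : A, (∀ y ∈ P, x * y = y * x) → x ∈ P) : t ∈ P := by
  by_contra htP
  have htt : t * t = 1 := by
    have := pow_orderOf_eq_one t
    rwa [h.ord, sq] at this
  -- elements of `K` commute with `t`
  have hKt : ∀ x ∈ K, x * t = t * x := by
    intro x hx
    have h1 : x * t * x⁻¹ = t := by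
      apply h.uniq _ (K.mul_mem (K.mul_mem hx (h.le h.mem)) (K.inv_mem hx))
      rw [← h.ord]
      exact MulEquiv.orderOf_eq (MulAut.conj x) t
    exact mul_inv_eq_iff_eq_mul.1 h1
  -- `P ∩ K = 1`
  have hPK : ∀ x ∈ P, x ∈ K → x = 1 := by
    intro x hxP hxK
    by_contra hx1
    obtain ⟨k, hk⟩ := (IsPGroup.iff_orderOf.1 hP2) ⟨x, hxP⟩
    rw [Subgroup.orderOf_mk] at hk
    have hk0 : k ≠ 0 := by
      rintro rfl
      rw [pow_zero, orderOf_eq_one_iff] at hk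
      exact hx1 hk
    obtain ⟨i, rfl⟩ := Nat.exists_eq_succ_of_ne_zero hk0
    have h2 : orderOf (x ^ 2 ^ i) = 2 := by
      rw [orderOf_pow' x (by positivity), hk, Nat.succ_eq_add_one, pow_succ, Nat.gcd_mul_right_left,
        Nat.mul_div_cancel_left _ (by positivity)]
    apply htP
    rw [← h.uniq _ (K.pow_mem hxK _) h2]
    exact P.pow_mem hxP _
  -- `C_P(t)` centralises `Q`
  have hCQ : ∀ c ∈ P, c * t = t * c → ∀ a ∈ Q, c * a = a * c := by
    intro c hc hct a ha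
    have h1 : c * a * c⁻¹ * a⁻¹ = 1 := by
      apply hPK
      · have h2 : a * c⁻¹ * a⁻¹ ∈ P := hP.conj_mem _ (P.inv_mem hc) a
        have h3 := P.mul_mem hc h2
        have e : c * (a * c⁻¹ * a⁻¹) = c * a * c⁻¹ * a⁻¹ := by group
        rwa [e] at h3
      · exact K.mul_mem (h.norm c hct a (h.le ha)) (K.inv_mem (h.le ha))
    rw [mul_inv_eq_one, mul_inv_eq_iff_eq_mul] at h1
    exact h1
  -- `C_P(t) Q` is a proper subgroup of `P Q`
  let C : Subgroup A := P ⊓ centralizer {t}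
  have hC : ∀ c, c ∈ C ↔ c ∈ P ∧ c * t = t * c := by
    intro c
    rw [Subgroup.mem_inf, Subgroup.mem_centralizer_singleton_iff]
  let CQ : Subgroup A :=
    { carrier := {x | ∃ c ∈ C, ∃ a ∈ Q, x = c * a}
      one_mem' := ⟨1, C.one_mem, 1, Q.one_mem, by simp⟩
      mul_mem' := by
        rintro _ _ ⟨c, hc, a, ha, rfl⟩ ⟨c', hc', a', ha', rfl⟩
        refine ⟨c * c', C.mul_mem hc hc', a * a', Q.mul_mem ha ha', ?_⟩
        have := hCQ c' ((hC _).1 hc').1 ((hC _).1 hc').2 a ha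
        calc c * a * (c' * a') = c * (a * c') * a' := by group
          _ = c * (c' * a) * a' := by rw [this]
          _ = c * c' * (a * a') := by group
      inv_mem' := by
        rintro _ ⟨c, hc, a, ha, rfl⟩
        refine ⟨c⁻¹, C.inv_mem hc, a⁻¹, Q.inv_mem ha, ?_⟩
        have := hCQ c ((hC _).1 hc).1 ((hC _).1 hc).2 a ha
        rw [this, mul_inv_rev] }
  have hCQm : ∀ x, x ∈ CQ ↔ ∃ c ∈ C, ∃ a ∈ Q, x = c * a := fun x => Iff.rfl
  have hT : IsPGroup 2 ↥(P ⊔ Q) := IsPGroup.to_sup_of_normal_left hP2 h.isQ.isPGroup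
  have hle : CQ ≤ P ⊔ Q := by
    rintro x ⟨c, hc, a, ha, rfl⟩
    exact (P ⊔ Q).mul_mem (Subgroup.mem_sup_left ((hC _).1 hc).1) (Subgroup.mem_sup_right ha)
  have hne : CQ ≠ P ⊔ Q := by
    intro he
    apply htP
    apply hCP
    intro y hy
    have h1 : y ∈ CQ := by rw [he]; exact Subgroup.mem_sup_left hy
    obtain ⟨c, hc, a, ha, hya⟩ := h1
    have h2 : a = 1 := by
      apply hPK a _ (h.le ha)
      have : a = c⁻¹ * y := by rw [hya]; group
      rw [this]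
      exact P.mul_mem (P.inv_mem ((hC _).1 hc).1) hy
    rw [hya, h2, mul_one]
    exact (((hC _).1 hc).2).symm
  obtain ⟨y, hy, hyCQ, hynorm⟩ := exists_normalizes hT hle hne
  obtain ⟨x, hx, q, hq, hxq⟩ := Subgroup.mem_sup_of_normal_left.1 hy
  have hyx : x = y * q⁻¹ := by rw [← hxq]; group
  have hxC : x ∉ C := by
    intro h1
    apply hyCQ
    exact ⟨x, h1, q, hq, hxq.symm⟩
  have hxn : ∀ a ∈ Q, ∃ c ∈ C, x * a * x⁻¹ = c * a := by
    intro a ha
    have h1 : y * (q⁻¹ * a * q) * y⁻¹ ∈ CQ :=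
      hynorm _ ⟨1, C.one_mem, _, Q.mul_mem (Q.mul_mem (Q.inv_mem hq) ha) hq, by simp⟩
    have h2 : x * a * x⁻¹ = y * (q⁻¹ * a * q) * y⁻¹ := by rw [hyx]; group
    rw [← h2] at h1
    obtain ⟨c, hc, a', ha', hca⟩ := h1
    refine ⟨c, hc, ?_⟩
    have h3 : a' * a⁻¹ = 1 := by
      apply hPK _ _ (K.mul_mem (h.le ha') (K.inv_mem (h.le ha)))
      have h4 : x * (a * x⁻¹ * a⁻¹) ∈ P := P.mul_mem hx (hP.conj_mem _ (P.inv_mem hx) a)
      have h5 : a' * a⁻¹ = c⁻¹ * (x * (a * x⁻¹ * a⁻¹)) := by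
        calc a' * a⁻¹ = c⁻¹ * (c * a') * a⁻¹ := by group
          _ = c⁻¹ * (x * a * x⁻¹) * a⁻¹ := by rw [hca]
          _ = c⁻¹ * (x * (a * x⁻¹ * a⁻¹)) := by group
      rw [h5]
      exact P.mul_mem (P.inv_mem ((hC _).1 hc).1) h4
    rw [hca, mul_inv_eq_one.1 h3]
  -- two elements of `Q` with commutator `t`
  have hzQ : ∀ s ∈ Q, orderOf s = 2 → s = t := fun s hs ho => h.uniq s (h.le hs) ho
  obtain ⟨b, hb, hb4⟩ := h.isQ.exists_four
  obtain ⟨a, ha, hab⟩ := h.isQ.exists_inverts b hb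
  have hbt : b ^ 2 = t := AutQuat.IsQ.sq_eq hzQ hb hb4
  have hcomm : a * b * a⁻¹ * b⁻¹ = t := by
    rw [hab, ← mul_inv_rev, ← sq, hbt]
    rw [inv_eq_iff_mul_eq_one]
    exact htt
  obtain ⟨cb, hcb, hxb⟩ := hxn b hb
  obtain ⟨ct, hct, hxt⟩ := hxn t h.mem
  have hcbP := (hC _).1 hcb
  have hctP := (hC _).1 hct
  have hcba := hCQ cb hcbP.1 hcbP.2 a ha
  have hcta := hCQ ct hctP.1 hctP.2 a ha
  -- `t = [a, x b x⁻¹]`
  have h1 : a * (x * b * x⁻¹) * a⁻¹ * (x * b * x⁻¹)⁻¹ = t := by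
    rw [hxb]
    calc a * (cb * b) * a⁻¹ * (cb * b)⁻¹ = (a * cb) * (b * a⁻¹ * b⁻¹) * cb⁻¹ := by group
      _ = (cb * a) * (b * a⁻¹ * b⁻¹) * cb⁻¹ := by rw [hcba]
      _ = cb * (a * b * a⁻¹ * b⁻¹) * cb⁻¹ := by group
      _ = cb * t * cb⁻¹ := by rw [hcomm]
      _ = t := by rw [hcbP.2, mul_inv_cancel_right]
  -- `x⁻¹ a x` commutes with `t`
  have h2 : (x⁻¹ * a * x) * t = t * (x⁻¹ * a * x) := by
    have h3 : a * (x * t * x⁻¹) = (x * t * x⁻¹) * a := by
      rw [hxt]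
      calc a * (ct * t) = (a * ct) * t := by group
        _ = (ct * a) * t := by rw [hcta]
        _ = ct * (a * t) := by group
        _ = ct * (t * a) := by rw [hKt a (h.le ha)]
        _ = ct * t * a := by group
    calc (x⁻¹ * a * x) * t = x⁻¹ * (a * (x * t * x⁻¹)) * x := by group
      _ = x⁻¹ * ((x * t * x⁻¹) * a) * x := by rw [h3]
      _ = t * (x⁻¹ * a * x) := by group
  have h3 : x⁻¹ * t * x ∈ K := by
    have h4 : x⁻¹ * t * x = ((x⁻¹ * a * x) * b * (x⁻¹ * a * x)⁻¹) * b⁻¹ := by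
      rw [← h1]; group
    rw [h4]
    exact K.mul_mem (h.norm _ h2 b (h.le hb)) (K.inv_mem (h.le hb))
  have h4 : x⁻¹ * t * x = t := by
    apply h.uniq _ h3
    have := MulEquiv.orderOf_eq (MulAut.conj x⁻¹) t
    rw [MulAut.conj_apply, inv_inv] at this
    rw [this, h.ord]
  apply hxC
  rw [hC]
  refine ⟨hx, ?_⟩
  calc x * t = x * (x⁻¹ * t * x) := by rw [h4]
    _ = t * x := by group

end Cfsg.Agent.H206.Hall
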